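import Groth.Agent.Etdl.H431.Succ

/-!
# The induction on the number of variables, and the statement of S3742
-/

set_option autoImplicit false
universe u
open CategoryTheory CategoryTheory.Limits AlgebraicGeometry Opposite

namespace Groth.Agent.Etdl.H441.Final

open Groth.Agent.Sga4h Groth.Agent.Sga4h.ConsWO Groth.Agent.Etdl.H434.Defs

/-- The induction. -/
theorem ft_all (h0 : FT.{u} 0) (h1 : ∀ m, FT.{u} m → SO.{u} (m + 1)) (h2 : ∀ m, SO.{u} m → FO.{u} m)
    (m : ℕ) : FT.{u} m := by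
  induction m with
  | zero => exact h0
  | succ m ih => exact Groth.Agent.Etdl.H431.Succ.ft_succ m ih (h2 _ (h1 m ih))

theorem of_ft (m : ℕ) (h : FT.{u} m) (k : Type u) [Field k] [CharZero k] {X Y : Scheme.{u}}
    (g : Y ⟶ Spec (CommRingCat.of (MvPowerSeries (Fin m) k)))
    [LocallyOfFiniteType g] [QuasiCompact g] (f : X ⟶ Y) [LocallyOfFiniteType f] [QuasiCompact f]
    (F : EtCoh.Ab X) (hF : EtPBC.IsConstructible F) (n : ℕ) (hn : 0 < n) (hFn : EtCoh.KilledBy n F) (q : ℕ) :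
    EtPBC.IsConstructible ((EtCoh.Rpush f q).obj F) :=
  (h k n hn (f ≫ g) g f rfl F ⟨hF, 1, by rw [pow_one]; exact hFn⟩ q).1

end Groth.Agent.Etdl.H441.Final
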