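import Mathlib.Algebra.Homology.DerivedCategory.RightDerivedFunctorPlus

/-!
# Injective amplitude and maps out of `D^{≥ i}`

If `L` in `D^+(C)` satisfies `Hom(F[0], L[i]) = 0` for all `F` and all `i > m`, then
`Hom(K, L) = 0` for every `K` in `D^{≥ i}` with `i > m`.  Also: right derived functors on `D^+`
preserve `D^{≥ n}`.
-/

set_option autoImplicit false

universe w w' v v' u u'

open CategoryTheory Category Limits HomologicalComplex Preadditive

namespace Groth.Agent.Etdl.H441.InjAmp

section Abs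

variable {C : Type u} [Category.{v} C] [Abelian C] [HasDerivedCategory.{w} C]

/-- morphisms in the derived category into a K-injective complex come from chain maps. -/
lemma exists_map_eq (K L : CochainComplex C ℤ) [L.IsKInjective]
    (φ : DerivedCategory.Q.obj K ⟶ DerivedCategory.Q.obj L) :
    ∃ f : K ⟶ L, DerivedCategory.Q.map f = φ := by
  obtain ⟨g, hg⟩ := (CochainComplex.IsKInjective.Qh_map_bijective
    ((HomotopyCategory.quotient _ _).obj K) L).surjective
      ((DerivedCategory.quotientCompQhIso C).hom.app K ≫ φ ≫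
        (DerivedCategory.quotientCompQhIso C).inv.app L)
  obtain ⟨f, rfl⟩ := (HomotopyCategory.quotient _ _).map_surjective g
  refine ⟨f, ?_⟩
  have h := DerivedCategory.quotientCompQhIso_hom_naturality f
  rw [hg] at h
  rw [← cancel_epi ((DerivedCategory.quotientCompQhIso C).hom.app K), ← h]
  simp

/-- a chain map into a K-injective complex which vanishes in the derived category is
null-homotopic. -/
lemma nonempty_homotopy (K L : CochainComplex C ℤ) [L.IsKInjective] (f : K ⟶ L)
    (hf : DerivedCategory.Q.map f = 0) : Nonempty (Homotopy f 0) := by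
  rw [← HomotopyCategory.quotient_map_eq_zero_iff]
  apply (CochainComplex.IsKInjective.Qh_map_bijective
    ((HomotopyCategory.quotient _ _).obj K) L).injective
  have h := DerivedCategory.quotientCompQhIso_hom_naturality f
  rw [hf, comp_zero] at h
  rw [Functor.map_zero]
  rw [← cancel_mono ((DerivedCategory.quotientCompQhIso C).hom.app L), h, zero_comp]

/-- the section of the differential on cycles -/
lemma exists_section (I : CochainComplex C ℤ) [I.IsKInjective] (j : ℤ)
    (h : ∀ F : C, Subsingleton ((DerivedCategory.singleFunctor C j).obj F ⟶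
      DerivedCategory.Q.obj I)) :
    ∃ s : I.cycles j ⟶ I.X (j - 1), s ≫ I.d (j - 1) j = I.iCycles j := by
  let f : (HomologicalComplex.single C (ComplexShape.up ℤ) j).obj (I.cycles j) ⟶ I :=
    mkHomFromSingle (I.iCycles j) (fun k _ => by simp)
  have hf : DerivedCategory.Q.map f = 0 := by
    have e := (DerivedCategory.singleFunctorIsoCompQ C j).app (I.cycles j)
    have := h (I.cycles j)
    have h2 : e.hom ≫ DerivedCategory.Q.map f = 0 := Subsingleton.elim _ _
    rwa [Preadditive.IsIso.comp_left_eq_zero] at h2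
  obtain ⟨H⟩ := nonempty_homotopy _ _ f hf
  have hc := H.comm j
  have hrel : (ComplexShape.up ℤ).Rel (j - 1) j := by simp
  rw [prevD_eq _ hrel] at hc
  have hrel' : (ComplexShape.up ℤ).Rel j (j + 1) := by simp
  rw [dNext_eq _ hrel'] at hc
  simp only [mkHomFromSingle_f, single_obj_d, zero_comp, zero_add, zero_f, add_zero, f] at hc
  refine ⟨(singleObjXSelf (ComplexShape.up ℤ) j (I.cycles j)).inv ≫ H.hom j (j - 1), ?_⟩
  rw [assoc, ← hc, Iso.inv_hom_id_assoc]

/-- the section of the differential on cycles, with free indices -/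
lemma exists_section' (I : CochainComplex C ℤ) [I.IsKInjective] (j k : ℤ) (hk : k + 1 = j)
    (h : ∀ F : C, Subsingleton ((DerivedCategory.singleFunctor C j).obj F ⟶
      DerivedCategory.Q.obj I)) :
    ∃ s : I.cycles j ⟶ I.X k, s ≫ I.d k j = I.iCycles j := by
  obtain rfl : k = j - 1 := by lia
  exact exists_section I j h

/-- A partial contracting homotopy in degrees `> m`. -/
lemma exists_partial_homotopy (I : CochainComplex C ℤ) [I.IsKInjective] (m : ℤ)
    (h : ∀ (F : C) (j : ℤ), m < j → Subsingleton ((DerivedCategory.singleFunctor C j).obj F ⟶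
      DerivedCategory.Q.obj I)) :
    ∃ H : ∀ (j k : ℤ), k + 1 = j → m < j → (I.X j ⟶ I.X k),
      ∀ (j k l : ℤ) (hk : k + 1 = j) (hl : j + 1 = l) (hj : m < j) (hl' : m < l),
        H j k hk hj ≫ I.d k j + I.d j l ≫ H l j hl hl' = 𝟙 _ := by
  choose s hs using fun (j k : ℤ) (hk : k + 1 = j) (hj : m < j) =>
    exists_section' I j k hk (fun F => h F j hj)
  -- projection onto cycles
  have hπ : ∀ (j : ℤ), m < j → ∃ π : I.X j ⟶ I.cycles j,
      ∀ (l : ℤ) (hl : j + 1 = l) (hl' : m < l),
        π ≫ I.iCycles j = 𝟙 _ - I.liftCycles (I.d j l) (l + 1) (by simp) (by simp) ≫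
          s l j hl hl' := by
    intro j hj
    refine ⟨I.liftCycles (𝟙 _ - I.liftCycles (I.d j (j + 1)) (j + 1 + 1) (by simp) (by simp) ≫
          s (j + 1) j rfl (by lia)) (j + 1) (by simp) ?_, ?_⟩
    · simp [sub_comp, hs]
    · rintro l rfl hl'
      simp
  choose π hπ using hπ
  refine ⟨fun j k hk hj => π j hj ≫ s j k hk hj, ?_⟩
  intro j k l hk hl hj hl'
  have h1 : I.d j l ≫ π l hl' = I.liftCycles (I.d j l) (l + 1) (by simp) (by simp) := by
    rw [← cancel_mono (I.iCycles l), assoc, hπ l hl' (l + 1) rfl (by lia), liftCycles_i, comp_sub,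
      comp_id]
    have : I.d j l ≫ I.liftCycles (I.d l (l + 1)) (l + 1 + 1) (by simp) (by simp) = 0 := by
      rw [← cancel_mono (I.iCycles (l + 1)), assoc, liftCycles_i]
      simp
    rw [reassoc_of% this, zero_comp, sub_zero]
  rw [assoc, hs, hπ j hj l hl hl', reassoc_of% h1]
  simp

/-- a chain map from a complex in degrees `≥ i` to such a complex is null-homotopic -/
lemma homotopy_zero (I : CochainComplex C ℤ) [I.IsKInjective] (m i : ℤ) (hmi : m < i)
    (h : ∀ (F : C) (j : ℤ), m < j → Subsingleton ((DerivedCategory.singleFunctor C j).obj F ⟶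
      DerivedCategory.Q.obj I)) (K : CochainComplex C ℤ) [K.IsStrictlyGE i] (f : K ⟶ I) :
    Nonempty (Homotopy f 0) := by
  obtain ⟨H, hH⟩ := exists_partial_homotopy I m h
  refine ⟨{
    hom := fun a b => if hab : b + 1 = a ∧ m < a then f.f a ≫ H a b hab.1 hab.2 else 0
    zero := fun a b hab => by
      have : ¬ (b + 1 = a ∧ m < a) := fun h => hab h.1
      simp [this]
    comm := ?_ }⟩
  intro j
  by_cases hj : m < j
  · have hrel : (ComplexShape.up ℤ).Rel (j - 1) j := by simp
    have hrel' : (ComplexShape.up ℤ).Rel j (j + 1) := by simp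
    rw [prevD_eq _ hrel, dNext_eq _ hrel', dif_pos ⟨rfl, by lia⟩, dif_pos ⟨by lia, hj⟩]
    have := hH j (j - 1) (j + 1) (by lia) rfl hj (by lia)
    rw [zero_f, add_zero, ← f.comm_assoc, assoc, ← comp_add, add_comm, this, comp_id]
  · exact (CochainComplex.isZero_of_isStrictlyGE K i j (by lia)).eq_of_src _ _

/-- **Vanishing**: maps from `D^{≥ i}` into an object of injective amplitude `≤ m < i`. -/
theorem subsingleton_hom_of_isGE [EnoughInjectives C] (L : DerivedCategory.Plus C) (m i : ℤ)
    (hmi : m < i)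
    (h : ∀ (F : C) (j : ℤ), m < j → Subsingleton ((DerivedCategory.Plus.singleFunctor C j).obj F ⟶
      L)) (K : DerivedCategory.Plus C) [K.IsGE i] : Subsingleton (K ⟶ L) := by
  obtain ⟨n, hn⟩ : ∃ n : ℤ, L.IsGE n := by
    obtain ⟨n, hn⟩ := L.property
    exact ⟨n, (L.isGE_ι_obj_iff n).1 hn⟩
  obtain ⟨I, _, ⟨e⟩⟩ := DerivedCategory.Plus.exists_injective_nonempty_iso L n
  let J : CochainComplex C ℤ := ((InjectiveObject.ι C).mapCochainComplexPlus.obj I).obj
  have hJ : J.IsKInjective := inferInstanceAs (CochainComplex.IsKInjective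
      (((InjectiveObject.ι C).mapHomologicalComplex (.up ℤ)).obj I.obj))
  let eJ : DerivedCategory.Q.obj J ≅ L.obj := DerivedCategory.Plus.ι.mapIso e
  have hK : K.obj.IsGE i := (K.isGE_ι_obj_iff i).2 inferInstance
  obtain ⟨K', _, ⟨eK⟩⟩ := DerivedCategory.exists_iso_Q_obj_of_isGE K.obj i
  have hJ' : ∀ (F : C) (j : ℤ), m < j → Subsingleton ((DerivedCategory.singleFunctor C j).obj F ⟶
      DerivedCategory.Q.obj J) := by
    intro F j hj
    have := h F j hj
    refine ⟨fun a b => ?_⟩
    rw [← cancel_mono eJ.hom]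
    exact congrArg (fun z => z.hom) (Subsingleton.elim
      (α := ((DerivedCategory.Plus.singleFunctor C j).obj F ⟶ L))
        ⟨a ≫ eJ.hom⟩ ⟨b ≫ eJ.hom⟩)
  refine ⟨fun a b => ?_⟩
  have key : ∀ φ : DerivedCategory.Q.obj K' ⟶ DerivedCategory.Q.obj J, φ = 0 := by
    intro φ
    obtain ⟨f, rfl⟩ := exists_map_eq K' J φ
    obtain ⟨H⟩ := homotopy_zero J m i hmi hJ' K' f
    rw [DerivedCategory.Q_map_eq_of_homotopy _ H, Functor.map_zero]
  apply DerivedCategory.Plus.ι.map_injective
  have h1 : eK.inv ≫ a.hom ≫ eJ.inv = eK.inv ≫ b.hom ≫ eJ.inv := by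
    rw [key (eK.inv ≫ a.hom ≫ eJ.inv), key (eK.inv ≫ b.hom ≫ eJ.inv)]
  rw [cancel_epi, cancel_mono] at h1
  exact h1

end Abs

section RD

variable {C : Type u} [Category.{v} C] [Abelian C] [HasDerivedCategory.{w} C] [EnoughInjectives C]
  {D : Type u'} [Category.{v'} D] [Abelian D] [HasDerivedCategory.{w'} D]

/-- Right derived functors on `D^+` preserve `D^{≥ n}`. -/
theorem isGE_rightDerivedFunctorPlus_obj (F : C ⥤ D) [F.Additive] (X : DerivedCategory.Plus C)
    (n : ℤ) [X.IsGE n] : (F.rightDerivedFunctorPlus.obj X).IsGE n := by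
  obtain ⟨I, hI, ⟨e⟩⟩ := DerivedCategory.Plus.exists_injective_nonempty_iso X n
  let I' : HomotopyCategory.Plus C := (HomotopyCategory.Plus.quotient C).obj
      ((InjectiveObject.ι C).mapCochainComplexPlus.obj I)
  have h1 : IsIso (F.rightDerivedFunctorPlusUnit.app I') :=
    inferInstanceAs (IsIso (F.rightDerivedFunctorPlusUnit.app
      ((InjectiveObject.ι C).mapHomotopyCategoryPlus.obj
        ((HomotopyCategory.Plus.quotient _).obj I))))
  let e1 : DerivedCategory.Plus.Qh.obj (F.mapHomotopyCategoryPlus.obj I') ≅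
      F.rightDerivedFunctorPlus.obj X :=
    asIso (F.rightDerivedFunctorPlusUnit.app I') ≪≫ F.rightDerivedFunctorPlus.mapIso e
  have hst : CochainComplex.IsStrictlyGE
      (((InjectiveObject.ι C).mapHomologicalComplex (.up ℤ)).obj I.obj) n :=
    inferInstance
  let M : CochainComplex D ℤ := (F.mapHomologicalComplex (.up ℤ)).obj
    (((InjectiveObject.ι C).mapHomologicalComplex (.up ℤ)).obj I.obj)
  have hM : M.IsStrictlyGE n := inferInstance
  have h2 : (DerivedCategory.Plus.Qh.obj (F.mapHomotopyCategoryPlus.obj I')).IsGE n := by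
    rw [← DerivedCategory.Plus.isGE_ι_obj_iff]
    exact DerivedCategory.TStructure.t.isGE_of_iso
      ((DerivedCategory.quotientCompQhIso D).symm.app M) n
  exact DerivedCategory.Plus.TStructure.t.isGE_of_iso e1 n

end RD

section Final

variable {C : Type u} [Category.{v} C] [Abelian C] [HasDerivedCategory.{w} C]

/-- shifting -/
lemma subsingleton_shift_iff (K L : DerivedCategory.Plus C) (i : ℤ) :
    Subsingleton (K ⟶ L⟦i⟧) ↔ Subsingleton (K⟦-i⟧ ⟶ L) := by
  let e : (K⟦-i⟧ ⟶ L) ≃ (K ⟶ L⟦i⟧) :=
    (Functor.FullyFaithful.ofFullyFaithful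
      (shiftFunctor (DerivedCategory.Plus C) i)).homEquiv.trans
      (Iso.homCongr ((shiftFunctorCompIsoId (DerivedCategory.Plus C) (-i) i (by simp)).app K)
        (Iso.refl _))
  exact e.symm.subsingleton_congr

/-- shifting, for single complexes -/
lemma subsingleton_single_shift_iff (F : C) (L : DerivedCategory.Plus C) (i : ℤ) :
    Subsingleton ((DerivedCategory.Plus.singleFunctor C 0).obj F ⟶ L⟦i⟧) ↔
      Subsingleton ((DerivedCategory.Plus.singleFunctor C i).obj F ⟶ L) := by
  rw [subsingleton_shift_iff]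
  let e := ((DerivedCategory.Plus.singleFunctors C).shiftIso (-i) i 0 (by simp)).app F
  exact (Iso.homCongr e (Iso.refl L)).subsingleton_congr

variable {D : Type u'} [Category.{v'} D] [Abelian D] [HasDerivedCategory.{w'} D]
  [EnoughInjectives D]

/-- A right adjoint of a functor `Φ` on `D^+` which preserves `D^{≥ n}` for all `n` does not
increase the injective amplitude. -/
theorem subsingleton_of_adj (Φ : DerivedCategory.Plus C ⥤ DerivedCategory.Plus D)
    (hΦ : ∀ (X : DerivedCategory.Plus C) (n : ℤ), X.IsGE n → (Φ.obj X).IsGE n)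
    (G : DerivedCategory.Plus D ⥤ DerivedCategory.Plus C) (adj : Φ ⊣ G)
    (L : DerivedCategory.Plus D) (m : ℤ)
    (hL : ∀ (F : D) (i : ℤ), m < i →
      Subsingleton ((DerivedCategory.Plus.singleFunctor D 0).obj F ⟶ L⟦i⟧))
    (F : C) (i : ℤ) (hi : m < i) :
    Subsingleton ((DerivedCategory.Plus.singleFunctor C 0).obj F ⟶ (G.obj L)⟦i⟧) := by
  rw [subsingleton_single_shift_iff]
  have h1 : (Φ.obj ((DerivedCategory.Plus.singleFunctor C i).obj F)).IsGE i :=
    hΦ _ _ inferInstance
  have h2 := subsingleton_hom_of_isGE L m i hi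
    (fun F j hj => (subsingleton_single_shift_iff F L j).1 (hL F j hj))
    (Φ.obj ((DerivedCategory.Plus.singleFunctor C i).obj F))
  exact (adj.homEquiv _ _).symm.subsingleton_congr.2 h2

end Final

end Groth.Agent.Etdl.H441.InjAmp
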