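import Groth.Agent.Sga4h.ConsWO
import Groth.Agent.Sga4h.GSqEt
import Groth.Agent.Sga4B.ShriekTools
import Groth.Agent.Etrest.ConsClass
import Groth.Agent.S0127

/-!
# Direct images along base changes of an open immersion: localisation

`NCO n t f`: for every cartesian square `j : U ⟶ X`, `U ⟶ T` over `f : X ⟶ S` and `t : T ⟶ S`, the higher
direct images along `j` preserve `Cn n`.

* `NCO.of_open`: passage to open subschemes;
* `NCO.of_cover`: locality.
-/

set_option autoImplicit false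
universe u
open CategoryTheory CategoryTheory.Limits AlgebraicGeometry Opposite

namespace Groth.Agent.Etdl.H441.Loc

open Groth.Agent.Sga4h Groth.Agent.Sga4h.ConsWO

/-- Finiteness of the higher direct images along the base change of `t` by `f`. -/
def NCO (n : ℕ) {S T : Scheme.{u}} (t : T ⟶ S) {X : Scheme.{u}} (f : X ⟶ S) : Prop :=
  ∀ ⦃U : Scheme.{u}⦄ (j : U ⟶ X) (fU : U ⟶ T), IsPullback j fU f t → ∀ G : EtCoh.Ab U, Cn n U G →
    ∀ q : ℕ, Cn n X ((EtCoh.Rpush j q).obj G)

variable {n : ℕ} {S T : Scheme.{u}} {t : T ⟶ S}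

/-- Base change along an étale morphism. -/
theorem etaleBC {X Y X' Y' : Scheme.{u}} {f : X ⟶ Y} {g : Y' ⟶ Y} {f' : X' ⟶ Y'} {g' : X' ⟶ X}
    (h : IsPullback g' f' f g) [Etale g] (F : EtCoh.Ab X) (q : ℕ) :
    Nonempty ((EtCoh.pull g).obj ((EtCoh.Rpush f q).obj F) ≅
      (EtCoh.Rpush f' q).obj ((EtCoh.pull g').obj F)) :=
  GSq.nonempty_baseChange_iso F (GSq.bc_of_etale h _) q

theorem cn_pull {X Y : Scheme.{u}} (f : X ⟶ Y) (F : EtCoh.Ab Y) (hF : Cn n Y F) :
    Cn n X ((EtCoh.pull f).obj F) := by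
  have hb : EtCoh.BCCont f := EtCoh.bcCont _
  exact ⟨Groth.Agent.S0127.result f F hF.1, hF.2.imp fun _ hk => killedBy_pull f hk⟩

/-- Passage to an open subscheme. -/
theorem NCO.of_open [QuasiCompact t] [QuasiSeparated t] {P : Scheme.{u}} {p : P ⟶ S}
    [IsNoetherian P] [LocallyOfFiniteType t] (hp : NCO n t p) {X : Scheme.{u}} (j : X ⟶ P) [IsOpenImmersion j]
    {f : X ⟶ S} (w : j ≫ p = f) : NCO n t f := by
  subst w
  intro U' jX fU' hU' F hF q
  let U := pullback p t
  let jP : U ⟶ P := pullback.fst p t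
  have hU : IsPullback jP (pullback.snd p t) p t := IsPullback.of_hasPullback p t
  let gK : U' ⟶ U := pullback.lift (jX ≫ j) fU' (by rw [Category.assoc]; exact hU'.w)
  have h1 : gK ≫ jP = jX ≫ j := pullback.lift_fst _ _ _
  have h2 : gK ≫ pullback.snd p t = fU' := pullback.lift_snd _ _ _
  have hsq : IsPullback gK jX jP j := by
    refine (IsPullback.of_right (h₁₂ := pullback.snd p t) (h₂₂ := p) ?_ h1 hU.flip)
    rw [h2]
    exact hU'.flip
  have hgK : IsOpenImmersion gK :=
    MorphismProperty.of_isPullback (P := @IsOpenImmersion) hsq.flip inferInstance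
  have hjP : LocallyOfFiniteType jP :=
    MorphismProperty.of_isPullback (P := @LocallyOfFiniteType) hU.flip inferInstance
  have hjP2 : QuasiCompact jP :=
    MorphismProperty.of_isPullback (P := @QuasiCompact) hU.flip inferInstance
  have hc : CompactSpace U := QuasiCompact.compactSpace_of_compactSpace jP
  have hN : IsLocallyNoetherian U := LocallyOfFiniteType.isLocallyNoetherian jP
  have hN' : IsNoetherian U := { }
  have hE : Cn n U ((EtShriek.extZero gK).obj F) :=
    ⟨Groth.Agent.Etrest.ConsClass.isConstructible_extZero gK F hF.1,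
      hF.2.imp fun _ hk => Sga4B.ShriekTools.killedBy_extZero gK _ F hk⟩
  obtain ⟨e⟩ := etaleBC hsq ((EtShriek.extZero gK).obj F) q
  exact Cn.iso (e ≪≫ (EtCoh.Rpush jX q).mapIso (Sga4B.ShriekTools.pullExtZeroIso gK F))
    (cn_pull j _ (hp jP _ hU _ hE q))

/-- Locality. -/
theorem NCO.of_cover {X : Scheme.{u}} {f : X ⟶ S} {ι : Type*} (V : ι → Scheme.{u})
    (v : ∀ i, V i ⟶ X) [∀ i, IsOpenImmersion (v i)] (hv : ∀ x : X, ∃ i, x ∈ Set.range (v i))
    (h : ∀ i, NCO n t (v i ≫ f)) : NCO n t f := by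
  intro U j fU hU F hF q
  refine ⟨EtpbcA.StrataGlob.isConstructible_of_openImmersions _ V v hv (fun i => ?_),
    hF.2.imp fun _ hk => killedBy_rpush j hk q⟩
  have hsq : IsPullback (pullback.fst j (v i)) (pullback.snd j (v i)) j (v i) := IsPullback.of_hasPullback _ _
  obtain ⟨e⟩ := etaleBC hsq F q
  refine EtpbcA.StrataGlob.isConstructible_of_iso e.symm ?_
  exact (h i (pullback.snd j (v i)) (pullback.fst j (v i) ≫ fU) (hsq.flip.paste_vert hU) _
    (cn_pull _ F hF) q).1

end Groth.Agent.Etdl.H441.Loc
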