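import Groth.Agent.Etdl.H431.LERPush
import Groth.Agent.Etdl.H434.Defs
import Groth.Agent.S0184
import Mathlib.RingTheory.MvPowerSeries.Equiv

/-!
# The direct image of `R^q j_* F` along a proper morphism

`p : P ⟶ SP m K` proper, `j : U ⟶ P` the base change of `D(g) ⟶ SP m K`: if `R^a j_* F` is in `Cn n` for `a < q`,
then so is `p_* R^q j_* F`.
-/

set_option autoImplicit false
universe u
open CategoryTheory CategoryTheory.Limits AlgebraicGeometry Opposite

namespace Groth.Agent.Etdl.H441.PushCn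

open Groth.Agent.Sga4h Groth.Agent.Sga4h.ConsWO Groth.Agent.Etdl.H434.Defs

/-- Finiteness for proper morphisms. -/
theorem cn_rpush_proper {X S : Scheme.{u}} [IsLocallyNoetherian S] (p : X ⟶ S) [IsProper p] {n : ℕ}
    (hn : 0 < n) (M : EtCoh.Ab X) (hM : Cn n X M) (a : ℕ) : Cn n S ((EtCoh.Rpush p a).obj M) := by
  obtain ⟨h, k, hk⟩ := hM
  have hb : EtCoh.BCCont p := EtCoh.bcCont _
  have : LocallyOfFinitePresentation p := LocallyOfFinitePresentation.iff_locallyOfFiniteType.mpr inferInstance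
  exact ⟨Groth.Agent.S0184.result p (n ^ k) (Nat.pow_pos hn) M h hk a, k, killedBy_rpush p hk a⟩

theorem cn_push_psi {m : ℕ} {K : Type u} [Field K] [CharZero K] {n : ℕ} (hn : 0 < n) (hSO : SO.{u} m)
    {g : MvPowerSeries (Fin m) K} (hg : g ≠ 0) {P : Scheme.{u}} (p : P ⟶ SP m K) [IsProper p]
    {U : Scheme.{u}} (j : U ⟶ P) (fU : U ⟶ Spec (CommRingCat.of (Localization.Away g)))
    (hU : IsPullback j fU p (jg g)) (F : EtCoh.Ab U) (hF : Cn n U F) (q : ℕ)
    (ihq : ∀ a < q, Cn n P ((EtCoh.Rpush j a).obj F)) :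
    Cn n (SP m K) ((EtCoh.push p).obj ((EtCoh.Rpush j q).obj F)) := by
  have hR : IsNoetherianRing (MvPowerSeries (Fin m) K) := inferInstance
  have hR' : IsNoetherianRing (Localization.Away g) :=
    IsLocalization.isNoetherianRing (Submonoid.powers g) _ hR
  have hprop : IsProper fU := MorphismProperty.of_isPullback (P := @IsProper) hU inferInstance
  have hcomp : ∀ b : ℕ, Cn n (SP m K) ((EtCoh.Rpush (j ≫ p) b).obj F) := by
    intro b
    refine Cn.iso ((PushDer.rpushCongr hU.w.symm b).app F) ?_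
    exact rpush_comp fU (jg g) (weakSerre_Cn n (SP m K)) Cn.iso (hSO K n hn g hg) F
      (fun a => cn_rpush_proper fU hn F hF a) b
  exact Groth.Agent.Etdl.H431.LERPush.cn_push_rpush j p F q ihq (cn_rpush_proper p hn) (hcomp q) (hcomp (q + 1))

end Groth.Agent.Etdl.H441.PushCn
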